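import Mathlib
import Cfsg.Agent.H145.BR.RowZ
import Cfsg.Agent.H649.Transport
import Cfsg.Agent.H116.RatB0.RowRgd
import Cfsg.Agent.H934.RowTwD4
import Cfsg.Agent.ChevalleyStructure.D4H1
import Cfsg.Agent.H116.RatB0.StExc_m3
import Cfsg.Agent.Prune
set_option linter.all false

section
prune_inst 0x7f00000000000000000000000000000000000000000000000000000000000000000000000000000000000000000000000000000000000000000000000000000000000000000000000000000000000000003fffffffffffffffffffffffffffbeffbdffffffff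

-- part: H932/BR/RowCongr
section
set_option linter.all false
open scoped Cfsg.Agent.FastGrp

/-!
# S4891: transport of the integer valued rows along an isomorphism (helper932)
-/

set_option autoImplicit false

namespace Cfsg.Agent.H932.BR

open Cfsg Cfsg.Agent.H145.BR

universe u v

/-- **`RowInt` is invariant under isomorphisms** -/
theorem RowInt.congr {p : ℕ} {S : Type u} {T : Type v} [Group S] [Group T] (e : S ≃* T) (h : RowInt p T) :
    RowInt p S := by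
  intro M hM
  obtain ⟨θ, h1, h2, h3, h4, h5⟩ := h M hM
  refine ⟨H649.irrMap e.symm θ, ?_, ?_, ?_, fun g => h4 _, fun a x => ?_⟩
  · rw [← H649.blkMap_principalBlock e.symm]
    exact H649.irrMap_mem_blkMap.2 h1
  · intro h6
    apply h2
    funext t
    have h7 := congrFun h6 (e.symm t)
    have h8 : (H649.irrMap e.symm θ : S → ℂ) (e.symm t) = (θ : T → ℂ) (e.symm.symm (e.symm t)) := rfl
    rw [h8, MulEquiv.symm_symm, MulEquiv.apply_symm_apply] at h7
    exact h7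
  · rw [H649.charDegree_irrMap]
    exact h3
  · have h6 := h5 ((e.symm.trans a).trans e) (e x)
    have h7 : ((e.symm.trans a).trans e) (e x) = e (a x) := by
      rw [MulEquiv.trans_apply, MulEquiv.trans_apply, MulEquiv.symm_apply_apply]
    rw [h7] at h6
    exact h6

end Cfsg.Agent.H932.BR
end

-- part: H932/BR/RowTd4
section
set_option linter.all false
open scoped Cfsg.Agent.FastGrp

/-!
# S4891, the row `³D₄(q)` in cross characteristic (helper932)
-/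

set_option autoImplicit false
set_option linter.unusedSectionVars false

namespace Cfsg.Agent.H932.BR.Td4

open CoxeterSystem Cfsg Cfsg.Lie Cfsg.Lie.ChevalleyDatum
open Cfsg.Agent.ChevalleyStructure Cfsg.Agent.ChevalleyStructure.Elts Cfsg.Agent.ChevalleyStructure.CoxeterGeom
  Cfsg.Agent.ChevalleyStructure.CoxeterGeomTypes Cfsg.Agent.ChevalleyStructure.NPerm
open Cfsg.Agent.Tits.Roots Cfsg.Agent.Tits.Core Cfsg.Agent.Nodes Cfsg.Agent.Nodes.Reps Cfsg.Agent.Nodes.BNOf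
  Cfsg.Agent.Nodes.RGDChev Cfsg.Agent.Nodes.Bruhat Cfsg.Agent.Nodes.NormalForm Cfsg.Agent.Nodes.StabComb Cfsg.Agent.Nodes.LeviDec
open Cfsg.Agent.KFacts.RgdField Cfsg.Agent.KFacts.RgdChevCoord Cfsg.Agent.BpExc.TorCent Cfsg.Agent.BpExc.TorChev
open Cfsg.Agent.BpExc.TowChev Cfsg.Agent.H129.TorusChar Cfsg.Agent.BpExc.Fix
open Cfsg.Agent.H145.BR (RowInt RowZ RowForT RowForZ)
open Cfsg.Agent.Nodes.RGDTwD4 (hp isCartan T X)

universe u

/-! ### The tables -/

/-- the exponent of the torus element of the outer nodes -/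
def lam (x : Fin 4 → ℤ) : ℤ :=
  pairing (cartanOf chevD4 4) 0 x + pairing (cartanOf chevD4 4) 2 x + pairing (cartanOf chevD4 4) 3 x

/-- the exponent of the torus element of the inner node -/
def mu (x : Fin 4 → ℤ) : ℤ := pairing (cartanOf chevD4 4) 1 x

theorem lam_add (x y : Fin 4 → ℤ) : lam (x + y) = lam x + lam y := by
  unfold lam
  rw [pairing_add, pairing_add, pairing_add]
  ring

theorem mu_add (x y : Fin 4 → ℤ) : mu (x + y) = mu x + mu y := pairing_add _ _ _ _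

theorem tab1 : ∀ r < chevD4.nroots, (lam (vec chevD4 4 r)).natAbs ≤ 3 ∧ (mu (vec chevD4 4 r)).natAbs ≤ 2 ∧
    ¬ (lam (vec chevD4 4 r) = 0 ∧ mu (vec chevD4 4 r) = 0) ∧
    3 * lam (vec chevD4 4 r) + 5 * mu (vec chevD4 4 r) ≠ 0 := by decide +kernel

theorem tab2 : ∀ r < chevD4.nroots, ∀ s < chevD4.nroots, mu (vec chevD4 4 r) = mu (vec chevD4 4 s) →
    (lam (vec chevD4 4 r) - lam (vec chevD4 4 s)).natAbs ≤ 4 := by decide +kernel

theorem simple_D4 : chevD4.simple 0 = 18 ∧ chevD4.simple 1 = 14 ∧ chevD4.simple 2 = 13 ∧ chevD4.simple 3 = 12 := by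
  decide +kernel

/-! ### The torus elements -/

section Tor

variable {K : Type u} [Field K]

/-- the torus element of the outer nodes -/
noncomputable def s1 (z : Kˣ) : ↥(chevD4.group K) := Cfsg.Agent.KFacts.RgdChevCoord.hc hp 0 (z : K) *
  Cfsg.Agent.KFacts.RgdChevCoord.hc hp 2 (z : K) * Cfsg.Agent.KFacts.RgdChevCoord.hc hp 3 (z : K)

/-- the torus element of the inner node -/
noncomputable def s2 (z : Kˣ) : ↥(chevD4.group K) := Cfsg.Agent.KFacts.RgdChevCoord.hc hp 1 (z : K)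

theorem s1_mem (z : Kˣ) : s1 z ∈ TT chevD4 K :=
  mul_mem (mul_mem (hc_mem hp 0 z.ne_zero) (hc_mem hp 2 z.ne_zero)) (hc_mem hp 3 z.ne_zero)

theorem s2_mem (z : Kˣ) : s2 z ∈ TT chevD4 K := hc_mem hp 1 z.ne_zero

theorem cX_s1 (z : Kˣ) (x : Fin 4 → ℤ) : cX hp (s1 z) x = ((z ^ lam x : Kˣ) : K) := by
  unfold s1 lam
  rw [cX_mul hp (mul_mem (hc_mem hp 0 z.ne_zero) (hc_mem hp 2 z.ne_zero)) (hc_mem hp 3 z.ne_zero),
    cX_mul hp (hc_mem hp 0 z.ne_zero) (hc_mem hp 2 z.ne_zero), cX_hc hp 0 z.ne_zero, cX_hc hp 2 z.ne_zero,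
    cX_hc hp 3 z.ne_zero, Units.val_zpow_eq_zpow_val, zpow_add₀ z.ne_zero, zpow_add₀ z.ne_zero]

theorem cX_s2 (z : Kˣ) (x : Fin 4 → ℤ) : cX hp (s2 z) x = ((z ^ mu x : Kˣ) : K) := by
  unfold s2 mu
  rw [cX_hc hp 1 z.ne_zero, Units.val_zpow_eq_zpow_val]

/-- an element of `W(D₄)` fixing the functionals `lam` and `mu` on the simple roots modulo `p` is trivial -/
theorem eq_one_of {W : Type*} [Group W] [Finite W] (cs : CoxeterSystem coxeterD4 W) {p : ℕ} (h5 : 5 ≤ p) {w : W}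
    (h1 : ∀ x, (p : ℤ) ∣ lam (rep cs hp.isCartan w x) - lam x)
    (h2 : ∀ x, (p : ℤ) ∣ mu (rep cs hp.isCartan w x) - mu x) : w = 1 := by
  let f : (Fin 4 → ℤ) →+ ℤ :=
    { toFun := fun x => 3 * lam x + 5 * mu x
      map_zero' := by simp [lam, mu, pairing]
      map_add' := fun x y => by rw [lam_add, mu_add]; ring }
  have hf : ∀ x, f x = 3 * lam x + 5 * mu x := fun _ => rfl
  have hsmall : ∀ m : ℤ, (p : ℤ) ∣ m → m.natAbs < 5 → m = 0 := by
    intro m hm hm'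
    exact Int.eq_zero_of_abs_lt_dvd hm (by rw [Int.abs_eq_natAbs]; omega)
  have hsr : ∀ i, f (rep cs hp.isCartan w (sr i)) = f (sr i) := by
    intro i
    obtain ⟨r, hr, er⟩ := (isRoot_iff hp cs _).1 (isRoot_sr cs hp.isCartan i)
    obtain ⟨s, hs, es⟩ := (isRoot_iff hp cs _).1 ((isRoot_sr cs hp.isCartan i).act w)
    have e1 := h1 (sr i)
    have e2 := h2 (sr i)
    rw [hf, hf]
    rw [← es, ← er] at e1 e2 ⊢
    obtain ⟨a1, a2, -, -⟩ := tab1 r hr
    obtain ⟨b1, b2, -, -⟩ := tab1 s hs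
    have e3 := hsmall _ e2 (by (clear * - a2 b2; omega))
    have e4 := hsmall _ e1 (by
      have := tab2 s hs r hr (by omega)
      omega)
    omega
  refine _root_.Cfsg.Agent.BpExc.Fix.eq_one_of_fix (cs := cs) (h := hp.isCartan) f (fun x hx => ?_) (fun x => ?_)
  · obtain ⟨r, hr, rfl⟩ := (isRoot_iff hp cs _).1 hx
    exact (tab1 r hr).2.2.2
  · rw [IsMC.eq_sum_sr x, map_sum, map_sum, map_sum]
    refine Finset.sum_congr rfl fun i _ => ?_
    rw [map_zsmul, map_zsmul, map_zsmul, hsr]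

/-- **the centralizer of the two torus elements in `D₄(K)`** -/
theorem cent4 [Finite K] {p : ℕ} (h5 : 5 ≤ p) {z : Kˣ} (hz : orderOf z = p) :
    Subgroup.centralizer ({s1 z, s2 z} : Set ↥(chevD4.group K)) ≤ TT chevD4 K := by
  obtain ⟨r, hcr⟩ := CharP.exists K
  have hr : Fact r.Prime := ⟨CharP.char_is_prime K r⟩
  have hfin := finite_W hp coxeterD4.toCoxeterSystem
  have hsmall : ∀ m : ℤ, (p : ℤ) ∣ m → m.natAbs < 5 → m = 0 := by
    intro m hm hm'
    exact Int.eq_zero_of_abs_lt_dvd hm (by rw [Int.abs_eq_natAbs]; omega)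
  have hone : ∀ m : ℤ, ((z ^ m : Kˣ) : K) = 1 → (p : ℤ) ∣ m := by
    intro m hm
    rw [← hz]
    exact orderOf_dvd_iff_zpow_eq_one.2 (Units.ext hm)
  refine cent_le_TT hp coxeterD4.toCoxeterSystem r ?_ (fun x hx => ?_) (fun w hw => ?_)
  · rintro _ (rfl | rfl)
    · exact s1_mem z
    · exact s2_mem z
  · obtain ⟨a, ha, rfl⟩ := (isRoot_iff hp _ _).1 hx
    obtain ⟨a1, a2, a3, -⟩ := tab1 a ha
    by_contra hcon
    push Not at hcon
    have e1 := hcon _ (Or.inl rfl)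
    have e2 := hcon _ (Or.inr rfl)
    rw [cX_s1] at e1
    rw [cX_s2] at e2
    exact a3 ⟨hsmall _ (hone _ e1) (by omega), hsmall _ (hone _ e2) (by omega)⟩
  · have key : ∀ a b : ℤ, ((z ^ a : Kˣ) : K) = ((z ^ b : Kˣ) : K) → (p : ℤ) ∣ a - b := by
      intro a b hab
      apply hone
      rw [zpow_sub, Units.ext hab, mul_inv_cancel, Units.val_one]
    refine eq_one_of coxeterD4.toCoxeterSystem h5 (fun x => key _ _ ?_) (fun x => key _ _ ?_)
    · rw [← cX_s1, ← cX_s1]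
      exact hw _ (Or.inl rfl) x
    · rw [← cX_s2, ← cX_s2]
      exact hw _ (Or.inr rfl) x

end Tor

/-! ### The subgroup of `³D₄(q)` -/

section Tw

variable {K : Type u} [Field K] {q : ℕ}

theorem wU_hWord_eq (r : ℕ) (c : K) : D4Cols.wU (chevD4.hWord r c) = hG hp.inList r c := by
  apply Units.ext
  rw [coe_hG]
  exact D4Cols.coe_wU _

theorem s1_tw {φ : K →+* K} (hφ : ∀ t, φ t = t ^ q) {z : Kˣ} (hz : (z : K) ^ q = z) :
    ((s1 z : ↥(chevD4.group K)) : GL chevD4.Idx K) ∈ twistedD4 K q := by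
  obtain ⟨e0, e1, e2, e3⟩ := simple_D4
  have h2 := D4H1.h_outer_mem (K := K) (q := q) hφ (z : K)
  have h3 : φ (z : K) = z := by rw [hφ, hz]
  rw [h3, h3, wU_hWord_eq, wU_hWord_eq, wU_hWord_eq, ← e0, ← e2, ← e3] at h2
  exact h2

theorem s2_tw {φ : K →+* K} (hφ : ∀ t, φ t = t ^ q) {z : Kˣ} (hz : (z : K) ^ q = z) :
    ((s2 z : ↥(chevD4.group K)) : GL chevD4.Idx K) ∈ twistedD4 K q := by
  obtain ⟨e0, e1, e2, e3⟩ := simple_D4
  have h2 := D4H1.h14_mem (K := K) (q := q) hφ (t := (z : K)) (by rw [hφ, hz])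
  rw [wU_hWord_eq, ← e1] at h2
  exact h2

theorem le_group : twistedD4 K q ≤ chevD4.group K := by
  change chevD4.genSubgroup K (d4Words K q) ≤ chevD4.group K
  unfold ChevalleyDatum.genSubgroup
  rw [Subgroup.closure_le]
  rintro g ⟨w, -, hg⟩
  rw [← eq_wordG_iff hp.inList] at hg
  rw [SetLike.mem_coe, hg]
  clear hg
  induction w with
  | nil => exact one_mem _
  | cons p w ih => rw [wordG_cons]; exact mul_mem (xG_mem_group hp.inList _ _) ih

theorem mem_T_iff {g : ↥(twistedD4 K q)} : g ∈ T K q ↔ (⟨g, le_group g.2⟩ : ↥(chevD4.group K)) ∈ TT chevD4 K := by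
  constructor
  · intro h
    exact (Subgroup.mem_inf.1 (Subgroup.mem_subgroupOf.1 h)).1
  · intro h
    exact Subgroup.mem_subgroupOf.2 (Subgroup.mem_inf.2 ⟨h, g.2⟩)

theorem T_comm {a b : ↥(twistedD4 K q)} (ha : a ∈ T K q) (hb : b ∈ T K q) : a * b = b * a := by
  have h := congrArg Subtype.val (TT_comm hp _ (mem_T_iff.1 ha) _ (mem_T_iff.1 hb))
  exact Subtype.ext h

/-- the elements of order dividing `p` of the torus -/
def QQ (K : Type u) [Field K] (q p : ℕ) : Subgroup ↥(twistedD4 K q) where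
  carrier := {t | t ∈ T K q ∧ t ^ p = 1}
  mul_mem' := by
    rintro a b ⟨ha, ha'⟩ ⟨hb, hb'⟩
    exact ⟨mul_mem ha hb, by rw [(show Commute a b from T_comm ha hb).mul_pow, ha', hb', one_mul]⟩
  one_mem' := ⟨one_mem _, one_pow _⟩
  inv_mem' := by
    rintro a ⟨ha, ha'⟩
    exact ⟨inv_mem ha, by rw [inv_pow, ha', inv_one]⟩

theorem QQ_le {p : ℕ} : QQ K q p ≤ T K q := fun _ h => h.1

theorem QQ_isPGroup {p : ℕ} [Fact p.Prime] : IsPGroup p (QQ K q p) := by
  intro t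
  refine ⟨1, Subtype.ext ?_⟩
  rw [pow_one]
  exact t.2.2

theorem s1_pow {p : ℕ} {z : Kˣ} (hz : orderOf z = p) : s1 z ^ p = 1 := by
  refine cX_inj hp (pow_mem (s1_mem z) p) (one_mem _) fun i => ?_
  rw [cX_pow hp (s1_mem z), cX_one, cX_s1, ← Units.val_pow_eq_pow_val, ← zpow_natCast, ← zpow_mul, mul_comm, zpow_mul,
    zpow_natCast, ← hz, pow_orderOf_eq_one, one_zpow, Units.val_one]

theorem s2_pow {p : ℕ} {z : Kˣ} (hz : orderOf z = p) : s2 z ^ p = 1 := by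
  refine cX_inj hp (pow_mem (s2_mem z) p) (one_mem _) fun i => ?_
  rw [cX_pow hp (s2_mem z), cX_one, cX_s2, ← Units.val_pow_eq_pow_val, ← zpow_natCast, ← zpow_mul, mul_comm, zpow_mul,
    zpow_natCast, ← hz, pow_orderOf_eq_one, one_zpow, Units.val_one]

/-- **`C(Q) ≤ T`** -/
theorem cent_QQ [Finite K] {φ : K →+* K} (hφ : ∀ t, φ t = t ^ q) {p : ℕ} (h5 : 5 ≤ p) {z : Kˣ} (hz : orderOf z = p)
    (hzq : (z : K) ^ q = z) : Subgroup.centralizer (QQ K q p : Set ↥(twistedD4 K q)) ≤ T K q := by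
  intro g hg
  rw [mem_T_iff]
  apply cent4 h5 hz
  rw [Subgroup.mem_centralizer_iff] at hg ⊢
  rintro _ (rfl | rfl)
  · have h1 := hg ⟨_, s1_tw hφ hzq⟩ ⟨mem_T_iff.2 (s1_mem z), Subtype.ext (by
      have h2 := congrArg Subtype.val (s1_pow hz)
      exact h2)⟩
    have h3 := congrArg Subtype.val h1
    exact Subtype.ext h3
  · have h1 := hg ⟨_, s2_tw hφ hzq⟩ ⟨mem_T_iff.2 (s2_mem z), Subtype.ext (by
      have h2 := congrArg Subtype.val (s2_pow hz)
      exact h2)⟩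
    have h3 := congrArg Subtype.val h1
    exact Subtype.ext h3

end Tw

/-! ### The arithmetic -/

theorem arith1 {q i : ℕ} (hq : 2 ≤ q) (h : i * (1 + q ^ 3) * ((q - 1) ^ 2 * (q ^ 2 + q + 1)) =
    (q ^ 2 - 1) * (q ^ 6 - 1) * (q ^ 8 + q ^ 4 + 1)) : i = (q + 1) * (q ^ 8 + q ^ 4 + 1) := by
  obtain ⟨x, rfl⟩ : ∃ x, q = x + 1 := ⟨q - 1, by omega⟩
  have e1 : (x + 1) ^ 2 - 1 = x * (x + 2) := by
    apply Nat.sub_eq_of_eq_add; ring
  have e2 : (x + 1) ^ 6 - 1 = x * ((x + 1) ^ 2 + (x + 1) + 1) * (1 + (x + 1) ^ 3) := by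
    apply Nat.sub_eq_of_eq_add; ring
  rw [e1, e2, Nat.add_sub_cancel] at h
  have hpos : 0 < (1 + (x + 1) ^ 3) * (x ^ 2 * ((x + 1) ^ 2 + (x + 1) + 1)) := by
    have : 0 < x := by omega
    (clear * - this; positivity)
  apply Nat.eq_of_mul_eq_mul_right hpos
  calc i * ((1 + (x + 1) ^ 3) * (x ^ 2 * ((x + 1) ^ 2 + (x + 1) + 1)))
      = i * (1 + (x + 1) ^ 3) * (x ^ 2 * ((x + 1) ^ 2 + (x + 1) + 1)) := by ring
    _ = _ := by rw [h]; ring

theorem arith2 {q i : ℕ} (hq : 2 ≤ q) (h : i * (1 + q) * ((q - 1) ^ 2 * (q ^ 2 + q + 1)) =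
    (q ^ 2 - 1) * (q ^ 6 - 1) * (q ^ 8 + q ^ 4 + 1)) : i = (q ^ 3 + 1) * (q ^ 8 + q ^ 4 + 1) := by
  obtain ⟨x, rfl⟩ : ∃ x, q = x + 1 := ⟨q - 1, by omega⟩
  have e1 : (x + 1) ^ 2 - 1 = x * (x + 2) := by
    apply Nat.sub_eq_of_eq_add; ring
  have e2 : (x + 1) ^ 6 - 1 = x * ((x + 1) ^ 2 + (x + 1) + 1) * (1 + (x + 1) ^ 3) := by
    apply Nat.sub_eq_of_eq_add; ring
  rw [e1, e2, Nat.add_sub_cancel] at h
  have hpos : 0 < (1 + (x + 1)) * (x ^ 2 * ((x + 1) ^ 2 + (x + 1) + 1)) := by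
    have : 0 < x := by omega
    (clear * - this; positivity)
  apply Nat.eq_of_mul_eq_mul_right hpos
  calc i * ((1 + (x + 1)) * (x ^ 2 * ((x + 1) ^ 2 + (x + 1) + 1)))
      = i * (1 + (x + 1)) * (x ^ 2 * ((x + 1) ^ 2 + (x + 1) + 1)) := by ring
    _ = _ := by rw [h]; ring

/-- the primes dividing the order -/
theorem cases_p {q p : ℕ} (hp : p.Prime) (hq : 2 ≤ q) (hpq : ¬ p ∣ q)
    (h : p ∣ q ^ 12 * ((q ^ 2 - 1) * (q ^ 6 - 1) * (q ^ 8 + q ^ 4 + 1))) :
    (p ∣ q - 1 ∧ ¬ p ∣ q ^ 8 + q ^ 4 + 1) ∨ p ∣ q + 1 ∨ p ∣ q ^ 8 + q ^ 4 + 1 := by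
  by_cases h8 : p ∣ q ^ 8 + q ^ 4 + 1
  · exact Or.inr (Or.inr h8)
  by_cases h1 : p ∣ q + 1
  · exact Or.inr (Or.inl h1)
  left
  refine ⟨?_, h8⟩
  have e1 : q ^ 2 - 1 = (q - 1) * (q + 1) := by
    obtain ⟨x, rfl⟩ : ∃ x, q = x + 1 := ⟨q - 1, by omega⟩
    rw [Nat.add_sub_cancel]
    apply Nat.sub_eq_of_eq_add; ring
  have e2 : q ^ 6 - 1 = (q - 1) * (q + 1) * (q ^ 4 + q ^ 2 + 1) := by
    obtain ⟨x, rfl⟩ : ∃ x, q = x + 1 := ⟨q - 1, by omega⟩
    rw [Nat.add_sub_cancel]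
    apply Nat.sub_eq_of_eq_add; ring
  have h4 : ¬ p ∣ q ^ 4 + q ^ 2 + 1 := by
    intro h4
    apply h8
    have h5 : q ^ 8 + q ^ 4 + 1 = (q ^ 4 + q ^ 2 + 1) * (q ^ 4 - q ^ 2 + 1) := by
      have h6 : q ^ 2 ≤ q ^ 4 := Nat.pow_le_pow_right (by omega) (by norm_num)
      zify [h6]
      ring
    rw [h5]
    exact Dvd.dvd.mul_right h4 _
  rw [e1, e2] at h
  rcases hp.dvd_mul.1 h with h | h
  · exact absurd (hp.dvd_of_dvd_pow h) hpq
  · rcases hp.dvd_mul.1 h with h | h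
    · rcases hp.dvd_mul.1 h with h | h
      · exact (hp.dvd_mul.1 h).resolve_right h1
      · exact (hp.dvd_mul.1 ((hp.dvd_mul.1 h).resolve_right h4)).resolve_right h1
    · exact absurd h h8

/-! ### The row -/

theorem path0 : H35.ExcIdx.PathOK CoxeterMatrix.G₂ [0] [0] [] 0 := by constructor <;> decide +kernel

/-- **`³D₄(q)`, all odd primes not dividing `q`** -/
theorem rowInt {K : Type u} [Field K] [Fintype K] {q : ℕ} (hq : IsPrimePow q) (hK : Fintype.card K = q ^ 3) {p : ℕ}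
    [hpp : Fact p.Prime] (hp2 : p ≠ 2) (hpK : (p : K) ≠ 0) (hd : p ∣ Nat.card ↥(twistedD4 K q)) :
    RowInt p ↥(twistedD4 K q) := by
  obtain ⟨φ, hφ⟩ := D4Fixed.exists_frob hq hK
  have : Finite (GL chevD4.Idx K) := inferInstance
  obtain ⟨r, hcr⟩ := CharP.exists K
  have hr' : Fact r.Prime := ⟨CharP.char_is_prime K r⟩
  have h2 : 2 ≤ q := hq.two_le
  have hpr : p ≠ r := by
    rintro rfl
    exact hpK (CharP.cast_eq_zero K p)
  obtain ⟨r', f, hr1, hf, hrf⟩ := hq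
  have hrr : r = r' := by
    obtain ⟨n, hpp, hn⟩ := FiniteField.card K r
    have h3 : r ∣ r' := by
      have h4 : r ∣ Fintype.card K := by rw [hn]; exact dvd_pow_self r n.pos.ne'
      rw [hK, ← hrf, ← pow_mul] at h4
      exact hpp.dvd_of_dvd_pow h4
    exact (Nat.prime_dvd_prime_iff_eq hpp hr1.nat_prime).1 h3
  subst hrr
  have hq' : IsPrimePow q := ⟨r, f, hr1, hf, hrf⟩
  have hfin : Finite CoxeterMatrix.G₂.Group := Nodes.RGDFold.finite_W (hp := hp)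
    CoxeterMatrix.G₂.toCoxeterSystem isCartan Nodes.RGDTwD4.foldData
  have hR := Nodes.RGDTwD4.rgd CoxeterMatrix.G₂.toCoxeterSystem hK hφ r
  have hG1 : Nodes.RGDLib.G1 CoxeterMatrix.G₂.toCoxeterSystem isCartan (X φ q) = ⊤ :=
    Nodes.RGDTwD4.G1_eq_top _ hK hφ
  have hGG : GG CoxeterMatrix.G₂.toCoxeterSystem isCartan (T K q) (X φ q) = ⊤ := by
    rw [eq_top_iff, ← hG1]
    exact le_sup_right
  have hc := H934.RowTwD4.card_X hφ (by omega) hK
  have hpq : ¬ p ∣ q := by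
    intro h3
    rw [← hrf] at h3
    exact hpr ((Nat.prime_dvd_prime_iff_eq hpp.out hr'.out).1 (hpp.out.dvd_of_dvd_pow h3))
  have hS0 : Nat.card ↥(twistedD4 K q) = q ^ 12 * ((q ^ 2 - 1) * (q ^ 6 - 1) * (q ^ 8 + q ^ 4 + 1)) := by
    rw [Cfsg.Agent.S1067.result hq' hK]
    ring
  rw [hS0] at hd
  rcases cases_p hpp.out h2 hpq hd with ⟨h3, h4⟩ | h3
  · -- `p ∣ q - 1`
    have hp3 : p ≠ 3 := by
      rintro rfl
      apply h4
      obtain ⟨y, hy⟩ := h3
      obtain rfl : q = 3 * y + 1 := by omega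
      have e : (3 * y + 1) ^ 8 + (3 * y + 1) ^ 4 + 1 = 3 * (2187 * y ^ 8 + 5832 * y ^ 7 + 6804 * y ^ 6 + 4536 * y ^ 5 +
          1917 * y ^ 4 + 540 * y ^ 3 + 102 * y ^ 2 + 12 * y + 1) := by ring
      rw [e]
      exact Dvd.intro _ rfl
    have h5 : 5 ≤ p := by
      have := hpp.out.two_le
      have h4' : p ≠ 4 := by
        rintro rfl
        exact absurd hpp.out (by norm_num)
      omega
    have hcard : Nat.card Kˣ = q ^ 3 - 1 := by
      rw [Nat.card_units, Nat.card_eq_fintype_card, hK]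
    have hdvd : p ∣ Nat.card Kˣ := by
      rw [hcard]
      exact h3.trans (by simpa only [_root_.one_pow] using Nat.sub_dvd_pow_sub_pow q 1 3)
    obtain ⟨z, hz⟩ := exists_prime_orderOf_dvd_card' (G := Kˣ) p hdvd
    have hzq : (z : K) ^ q = z := by
      have h6 : z ^ (q - 1) = 1 := orderOf_dvd_iff_pow_eq_one.1 (hz ▸ h3)
      have h7 : z ^ q = z := by
        obtain ⟨y, hy⟩ : ∃ y, q = y + 1 := ⟨q - 1, by omega⟩
        rw [hy, Nat.add_sub_cancel] at h6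
        rw [hy, pow_succ, h6, one_mul]
      rw [← Units.val_pow_eq_pow_val, h7]
    exact H116.RatB0.rowInt_of hR hGG hpr fun _ _ => Or.inr (H116.RatB0.reg_modEq_of_le QQ_isPGroup
      ((QQ_le.trans RGD.T_le_B).trans B_le_PJ) ((cent_QQ hφ h5 hz hzq).trans (RGD.T_le_B.trans B_le_PJ)))
  · -- the other primes
    have hT : 1 * Nat.card ↥(T K q) = (q - 1) ^ 2 * (q ^ 2 + q + 1) := by
      rw [one_mul, ← Cfsg.Agent.S1106.result hq' hK]
      exact Nat.card_congr (Subgroup.subgroupOfEquivOfLe inf_le_right).toEquiv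
    have hS : 1 * Nat.card ↥(twistedD4 K q) = r ^ (f * 12) * ((q ^ 2 - 1) * (q ^ 6 - 1) * (q ^ 8 + q ^ 4 + 1)) := by
      rw [one_mul, hS0, pow_mul, hrf]
    have hrq : r ∣ q := by rw [← hrf]; exact dvd_pow_self r hf.ne'
    have hsub : ∀ k, k ≠ 0 → ¬ r ∣ q ^ k - 1 := by
      intro k hk h3
      have h4 : r ∣ q ^ k := dvd_pow hrq hk
      have h5 : 1 ≤ q ^ k := Nat.one_le_pow _ _ (by omega)
      have h6 := Nat.dvd_sub h4 h3
      rw [Nat.sub_sub_self h5] at h6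
      exact hr'.out.one_lt.ne' (Nat.dvd_one.1 h6)
    have hP : ¬ r ∣ (q ^ 2 - 1) * (q ^ 6 - 1) * (q ^ 8 + q ^ 4 + 1) := by
      rw [hr'.out.dvd_mul, hr'.out.dvd_mul]
      rintro ((h3 | h3) | h3)
      · exact hsub 2 (by norm_num) h3
      · exact hsub 6 (by norm_num) h3
      · have h4 : r ∣ q ^ 8 + q ^ 4 := dvd_add (dvd_pow hrq (by norm_num)) (dvd_pow hrq (by norm_num))
        exact hr'.out.one_lt.ne' (Nat.dvd_one.1 ((Nat.dvd_add_right h4).1 h3))
    have hN1 := H35.ExcIdx.card_step hR H934.RowTwD4.path1 (y := q ^ 3) (fun i hi => by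
      rw [List.mem_singleton] at hi
      rw [hc, hi]
      rfl) (H35.ExcIdx.card_nil hR)
    have hN0 := H35.ExcIdx.card_step hR path0 (y := q) (fun i hi => by
      rw [List.mem_singleton] at hi
      rw [hc, hi]
      rfl) (H35.ExcIdx.card_nil hR)
    have h6 := H35.ExcIdx.index_eq hR hGG hN1 (d := 1) (fun h => hr'.out.one_lt.ne' (Nat.dvd_one.1 h)) hT hS hP
    have h7 := H35.ExcIdx.index_eq hR hGG hN0 (d := 1) (fun h => hr'.out.one_lt.ne' (Nat.dvd_one.1 h)) hT hS hP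
    have hFA : H35.ExcIdx.FA [(1 : Fin 2)].length (q ^ 3) * 1 = 1 + q ^ 3 := by
      simp [H35.ExcIdx.FA, Finset.sum_range_succ]
    have hFA0 : H35.ExcIdx.FA [(0 : Fin 2)].length q * 1 = 1 + q := by simp [H35.ExcIdx.FA, Finset.sum_range_succ]
    rw [hFA] at h6
    rw [hFA0] at h7
    have e1 := arith1 h2 h6
    have e2 := arith2 h2 h7
    have hJ1 : ({j | j ≠ 0} : Set (Fin 2)) = {j | j ∈ ([1] : List (Fin 2))} := by
      ext j; revert j; decide
    have hJ0 : ({j | j ≠ 1} : Set (Fin 2)) = {j | j ∈ ([0] : List (Fin 2))} := by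
      ext j; revert j; decide
    refine H116.RatB0.rowInt_of_index hR hGG hpr fun k => ?_
    fin_cases k
    · show p ∣ (PJ CoxeterMatrix.G₂.toCoxeterSystem isCartan (T K q) (X φ q) {j | j ≠ 0}).index
      rw [hJ1, e1]
      rcases h3 with h3 | h3
      · exact Dvd.dvd.mul_right h3 _
      · exact Dvd.dvd.mul_left h3 _
    · show p ∣ (PJ CoxeterMatrix.G₂.toCoxeterSystem isCartan (T K q) (X φ q) {j | j ≠ 1}).index
      rw [hJ0, e2]
      rcases h3 with h3 | h3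
      · refine Dvd.dvd.mul_right (h3.trans ?_) _
        have h8 : q ^ 3 + 1 = (q + 1) * (q ^ 2 - q + 1) := by
          have h9 : q ≤ q ^ 2 := by nlinarith only []
          zify [h9]
          ring
        rw [h8]
        exact Dvd.intro _ rfl
      · exact Dvd.dvd.mul_left h3 _

/-- **the integer valued row `td4`** -/
theorem row_td4_int {p : ℕ} [Fact p.Prime] (hp2 : p ≠ 2) {X : Type u} [Group X] (hd : p ∣ Nat.card X)
    (h : ∃ (K : Type) (_ : Field K) (_ : Fintype K) (q : ℕ), (p : K) ≠ 0 ∧ IsPrimePow q ∧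
      Fintype.card K = q ^ 3 ∧ Nonempty (X ≃* Lie.twistedD4 K q)) : RowInt p X := by
  obtain ⟨K, _, _, q, h1, h2, h3, ⟨e⟩⟩ := h
  rw [Nat.card_congr e.toEquiv] at hd
  exact RowInt.congr e (rowInt h2 h3 hp2 h1 hd)

/-- **the row `td4`**, integer valued -/
theorem rowZ_td4 {p : ℕ} [Fact p.Prime] (hp2 : p ≠ 2) :
    RowForZ p (fun X _ => ∃ (K : Type) (_ : Field K) (_ : Fintype K) (q : ℕ), (p : K) ≠ 0 ∧ IsPrimePow q ∧
      Fintype.card K = q ^ 3 ∧ Nonempty (X ≃* Lie.twistedD4 K q)) :=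
  fun _ _ _ _ _ hd h => (row_td4_int hp2 hd h).rowZ

/-- **the row `td4`** -/
theorem row_td4 {p : ℕ} [Fact p.Prime] (hp2 : p ≠ 2) :
    RowForT p (fun X _ => ∃ (K : Type) (_ : Field K) (_ : Fintype K) (q : ℕ), (p : K) ≠ 0 ∧ IsPrimePow q ∧
      Fintype.card K = q ^ 3 ∧ Nonempty (X ≃* Lie.twistedD4 K q)) :=
  (rowZ_td4 hp2).rowForT

end Cfsg.Agent.H932.BR.Td4

private theorem dce_fc67771826a0 : _root_.True := by
  try have : _root_.True := by simp only [_root_.Cfsg.Agent.H932.BR.Td4.lam.eq_1]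
  try have : _root_.True := by simp only [_root_.Cfsg.Agent.H129.TorusChar.cX.congr_simp]
  try have : _root_.True := by simp only [_root_.Cfsg.Agent.H932.BR.Td4.mu.eq_1]
  exact _root_.True.intro
end
end
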